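import Groth.Agent.NilLift.Basic
import Mathlib.AlgebraicGeometry.Morphisms.ClosedImmersion
import Mathlib.AlgebraicGeometry.Morphisms.Immersion
import Mathlib.AlgebraicGeometry.Morphisms.FiniteType
import Mathlib.AlgebraicGeometry.Morphisms.QuasiCompact
import Mathlib.AlgebraicGeometry.PullbackCarrier

/-!
# Properties of morphisms over a nilpotent thickening of an affine base
-/

set_option autoImplicit false

universe u

open CategoryTheory CategoryTheory.Limits AlgebraicGeometry

namespace Groth.Agent.NilLift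

variable {A : Type u} [CommRing A] (I : Ideal A)

/-- The closed subscheme of `Spec A` defined by `I`. -/
noncomputable abbrev quotι : Spec (CommRingCat.of (A ⧸ I)) ⟶ Spec (CommRingCat.of A) :=
  Spec.map (CommRingCat.ofHom (Ideal.Quotient.mk I))

instance : IsClosedImmersion (quotι I) :=
  IsClosedImmersion.spec_of_surjective _ Ideal.Quotient.mk_surjective

theorem surjective_quotι (hI : IsNilpotent I) : Surjective (quotι I) := by
  refine ⟨fun p => ?_⟩
  have hle : I ≤ (PrimeSpectrum.asIdeal p) := by
    obtain ⟨N, hN⟩ := hI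
    intro a ha
    refine p.isPrime.mem_of_pow_mem N ?_
    have := Ideal.pow_mem_pow ha N
    rw [hN, Ideal.zero_eq_bot, Ideal.mem_bot] at this
    rw [this]; exact zero_mem _
  have : p ∈ Set.range (PrimeSpectrum.comap (Ideal.Quotient.mk I)) := by
    rw [range_comap_of_surjective _ _ Ideal.Quotient.mk_surjective, Ideal.mk_ker]
    exact hle
  exact this

theorem bijective_fst (hI : IsNilpotent I) {X : Scheme.{u}} (g : X ⟶ Spec (CommRingCat.of A)) :
    Function.Bijective (pullback.fst g (quotι I)) := by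
  refine ⟨(pullback.fst g (quotι I)).isClosedEmbedding.injective, fun x => ?_⟩
  have := surjective_quotι I hI
  exact (inferInstance : Surjective (pullback.fst g (quotι I))).surj x

theorem quasiCompact_of_nil (hI : IsNilpotent I) {X : Scheme.{u}} (g : X ⟶ Spec (CommRingCat.of A))
    [QuasiCompact (pullback.snd g (quotι I))] : QuasiCompact g := by
  have : CompactSpace ↥(pullback g (quotι I)) :=
    QuasiCompact.compactSpace_of_compactSpace (pullback.snd g (quotι I))
  rw [HasAffineProperty.iff_of_isAffine (P := @QuasiCompact)]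
  exact (bijective_fst I hI g).surjective.compactSpace (pullback.fst g (quotι I)).continuous

theorem locallyOfFiniteType_of_nil (hI : IsNilpotent I) {X : Scheme.{u}} (g : X ⟶ Spec (CommRingCat.of A))
    [LocallyOfFiniteType (pullback.snd g (quotι I))] : LocallyOfFiniteType g := by
  let 𝒰 := X.affineOpenCover
  rw [IsZariskiLocalAtSource.iff_of_openCover (P := @LocallyOfFiniteType) 𝒰.openCover]
  intro (i : 𝒰.I₀)
  obtain ⟨φ, hφ⟩ := Spec.map_surjective (𝒰.f i ≫ g)
  show LocallyOfFiniteType (𝒰.f i ≫ g)
  rw [← hφ, HasRingHomProperty.Spec_iff (P := @LocallyOfFiniteType)]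
  let : Algebra A (𝒰.X i) := φ.hom.toAlgebra
  let C : CommRingCat.{u} := 𝒰.X i
  have : LocallyOfFiniteType (pullback.snd (Spec.map φ) (quotι I)) := by
    have e := pullbackRightPullbackFstIso_hom_snd g (quotι I) (𝒰.f i)
    have h1 : LocallyOfFiniteType ((pullbackRightPullbackFstIso g (quotι I) (𝒰.f i)).hom ≫
        pullback.snd (𝒰.f i ≫ g) (quotι I)) := by
      rw [e]; infer_instance
    rw [MorphismProperty.cancel_left_of_respectsIso (P := @LocallyOfFiniteType)] at h1
    rw [hφ]; exact h1
  let b : CommRingCat.of (A ⧸ I) ⟶ CommRingCat.of (C ⧸ I.map (algebraMap A C)) :=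
    CommRingCat.ofHom (algebraMap (A ⧸ I) (C ⧸ I.map (algebraMap A C)))
  have hft : b.hom.FiniteType := by
    let l : Spec (CommRingCat.of (C ⧸ I.map (algebraMap A C))) ⟶ pullback (Spec.map φ) (quotι I) :=
      pullback.lift (Spec.map (CommRingCat.ofHom (Ideal.Quotient.mk (I.map (algebraMap A C))))) (Spec.map b) (by
        rw [← Spec.map_comp, ← Spec.map_comp]
        rfl)
    have : IsClosedImmersion (l ≫ pullback.fst (Spec.map φ) (quotι I)) := by
      rw [show l ≫ pullback.fst (Spec.map φ) (quotι I) = _ from pullback.lift_fst _ _ _]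
      exact IsClosedImmersion.spec_of_surjective _ Ideal.Quotient.mk_surjective
    have : IsClosedImmersion l := IsClosedImmersion.of_comp l (pullback.fst (Spec.map φ) (quotι I))
    have : LocallyOfFiniteType (Spec.map b) := by
      rw [← show l ≫ pullback.snd (Spec.map φ) (quotι I) = _ from pullback.lift_snd _ _ _]
      infer_instance
    exact (HasRingHomProperty.Spec_iff (P := @LocallyOfFiniteType)).1 this
  show RingHom.FiniteType φ.hom
  have hft' : ∀ K : Ideal A, K = I → Algebra.FiniteType (A ⧸ K) (C ⧸ K.map (algebraMap A C)) := by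
    rintro _ rfl
    exact RingHom.finiteType_algebraMap.1 hft
  have := finiteType_of_mod (A := A) (B := A) (C := C) I hI (hft' _ (Ideal.map_id I))
  exact RingHom.finiteType_algebraMap.2 this

theorem ker_stalkMap_fst_le (hI : IsNilpotent I) {X : Scheme.{u}} (g : X ⟶ Spec (CommRingCat.of A))
    (x0 : ↥(pullback g (quotι I))) :
    RingHom.ker ((pullback.fst g (quotι I)).stalkMap x0).hom ≤
      I.map (Spec.preimage (X.fromSpecStalk (pullback.fst g (quotι I) x0) ≫ g)).hom := by
  intro a ha
  let x := pullback.fst g (quotι I) x0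
  let ψ := (Spec.preimage (X.fromSpecStalk x ≫ g)).hom
  show a ∈ I.map ψ
  let R := X.presheaf.stalk x
  let J : Ideal R := I.map ψ
  have hJ : IsNilpotent J := by
    obtain ⟨N, hN⟩ := hI
    exact ⟨N, by rw [← Ideal.map_pow, hN]; exact Ideal.map_bot⟩
  have hJle : J ≤ IsLocalRing.maximalIdeal R := by
    obtain ⟨N, hN⟩ := hJ
    intro r hr
    refine (IsLocalRing.maximalIdeal.isMaximal R).isPrime.mem_of_pow_mem N ?_
    have := Ideal.pow_mem_pow hr N
    rw [hN, Ideal.zero_eq_bot, Ideal.mem_bot] at this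
    rw [this]; exact zero_mem _
  have : Nontrivial (R ⧸ J) := Ideal.Quotient.nontrivial_iff.2 fun h =>
    (IsLocalRing.maximalIdeal.isMaximal R).ne_top (top_le_iff.1 (h ▸ hJle))
  have : IsLocalRing (R ⧸ J) := .of_surjective' (Ideal.Quotient.mk J) Ideal.Quotient.mk_surjective
  let mk : R ⟶ CommRingCat.of (R ⧸ J) := CommRingCat.ofHom (Ideal.Quotient.mk J)
  have : IsLocalHom mk.hom := IsLocalHom.of_surjective _ Ideal.Quotient.mk_surjective
  let b : CommRingCat.of (A ⧸ I) ⟶ CommRingCat.of (R ⧸ J) :=
    CommRingCat.ofHom (Ideal.quotientMap J ψ Ideal.le_comap_map)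
  let c : Spec (CommRingCat.of (R ⧸ J)) ⟶ X := Spec.map mk ≫ X.fromSpecStalk x
  let l : Spec (CommRingCat.of (R ⧸ J)) ⟶ pullback g (quotι I) :=
    pullback.lift c (Spec.map b) (by
      rw [Category.assoc, ← Spec.map_preimage (X.fromSpecStalk x ≫ g), ← Spec.map_comp, ← Spec.map_comp]
      rfl)
  have hlc : l ≫ pullback.fst g (quotι I) = c := pullback.lift_fst _ _ _
  have hpt : c (IsLocalRing.closedPoint _) = x := by
    show X.fromSpecStalk x (Spec.map mk (IsLocalRing.closedPoint _)) = x
    rw [Spec.map_apply, IsLocalRing.comap_closedPoint, Scheme.fromSpecStalk_closedPoint]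
  have hw : l (IsLocalRing.closedPoint _) = x0 := by
    apply (bijective_fst I hI g).injective
    rw [← Scheme.Hom.comp_apply, hlc, hpt]
  obtain ⟨U, hxU, s, hs⟩ := X.presheaf.exists_germ_eq a
  subst hs
  replace ha : (pullback.fst g (quotι I)).stalkMap x0 (X.presheaf.germ U x hxU s) = 0 := ha
  rw [Scheme.Hom.germ_stalkMap_apply] at ha
  have hU : c (IsLocalRing.closedPoint _) ∈ U := hpt ▸ hxU
  have h1 := ConcreteCategory.congr_hom (Scheme.germ_stalkClosedPointTo_Spec_fromSpecStalk mk U hU) s
  have hUl : (l ≫ pullback.fst g (quotι I)) (IsLocalRing.closedPoint _) ∈ U := by rw [hlc]; exact hU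
  have h2 : Scheme.stalkClosedPointTo (l ≫ pullback.fst g (quotι I))
      (X.presheaf.germ U _ hUl s) = 0 := by
    rw [Scheme.stalkClosedPointTo_comp]
    show Scheme.stalkClosedPointTo l ((pullback.fst g (quotι I)).stalkMap _ (X.presheaf.germ U _ hUl s)) = 0
    have : ∀ (w : ↥(pullback g (quotι I))) (hwU : pullback.fst g (quotι I) w ∈ U), w = x0 →
        (pullback.fst g (quotι I)).stalkMap w (X.presheaf.germ U _ hwU s) = 0 := by
      rintro w hwU rfl
      rw [Scheme.Hom.germ_stalkMap_apply]
      exact ha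
    exact (congrArg _ (this _ hUl hw)).trans (map_zero _)
  have h3 : ∀ (c' : Spec (CommRingCat.of (R ⧸ J)) ⟶ X) (hc' : c' (IsLocalRing.closedPoint _) ∈ U), c' = c →
      Scheme.stalkClosedPointTo c' (X.presheaf.germ U _ hc' s) =
        Scheme.stalkClosedPointTo c (X.presheaf.germ U _ hU s) := by
    rintro c' hc' rfl; rfl
  rw [h3 _ hUl hlc] at h2
  have h4 := h1.symm.trans h2
  exact Ideal.Quotient.eq_zero_iff_mem.1 h4

theorem surjectiveOnStalks_of_nil (hI : IsNilpotent I) {X Y : Scheme.{u}} (u : X ⟶ Y)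
    (g : Y ⟶ Spec (CommRingCat.of A)) (v : pullback (u ≫ g) (quotι I) ⟶ pullback g (quotι I))
    (hv : v ≫ pullback.fst g (quotι I) = pullback.fst (u ≫ g) (quotι I) ≫ u)
    [SurjectiveOnStalks v] : SurjectiveOnStalks u := by
  refine ⟨fun x => ?_⟩
  obtain ⟨x0, rfl⟩ := (bijective_fst I hI (u ≫ g)).surjective x
  set j := pullback.fst (u ≫ g) (quotι I)
  set x := j x0
  let ψY := (Spec.preimage (Y.fromSpecStalk (u x) ≫ g)).hom
  let ψX := (Spec.preimage (X.fromSpecStalk x ≫ u ≫ g)).hom
  have hcomm : (u.stalkMap x).hom.comp ψY = ψX := by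
    have : Spec.preimage (Y.fromSpecStalk (u x) ≫ g) ≫ u.stalkMap x =
        Spec.preimage (X.fromSpecStalk x ≫ u ≫ g) := by
      apply Spec.map_injective
      rw [Spec.map_comp, Spec.map_preimage, Spec.map_preimage,
        Scheme.SpecMap_stalkMap_fromSpecStalk_assoc]
    exact congrArg CommRingCat.Hom.hom this
  let : Algebra A (Y.presheaf.stalk (u x)) := ψY.toAlgebra
  let : Algebra A (X.presheaf.stalk x) := ψX.toAlgebra
  let : Algebra (Y.presheaf.stalk (u x)) (X.presheaf.stalk x) := (u.stalkMap x).hom.toAlgebra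
  have : IsScalarTower A (Y.presheaf.stalk (u x)) (X.presheaf.stalk x) :=
    IsScalarTower.of_algebraMap_eq' hcomm.symm
  have hsurj : Function.Surjective ((j ≫ u).stalkMap x0) := by
    have : ∀ (q : pullback (u ≫ g) (quotι I) ⟶ Y), q = v ≫ pullback.fst g (quotι I) →
        Function.Surjective (q.stalkMap x0) := by
      rintro q rfl
      exact (v ≫ pullback.fst g (quotι I)).stalkMap_surjective x0
    exact this _ hv.symm
  have h := adjoin_eq_top_of_mod (A := A) (B := Y.presheaf.stalk (u x)) (C := X.presheaf.stalk x) I hI ∅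
    (fun c => by
      obtain ⟨(b : Y.presheaf.stalk (u x)), hb⟩ := hsurj (j.stalkMap x0 c)
      refine ⟨algebraMap (Y.presheaf.stalk (u x)) _ b, Subalgebra.algebraMap_mem _ _, ker_stalkMap_fst_le I hI (u ≫ g) x0 ?_⟩
      rw [RingHom.mem_ker, map_sub, sub_eq_zero]
      refine hb.symm.trans ?_
      rw [Scheme.Hom.stalkMap_comp]
      rfl)
  intro c
  have hc : c ∈ Algebra.adjoin (Y.presheaf.stalk (u x)) (∅ : Set (X.presheaf.stalk x)) := h ▸ Algebra.mem_top
  rw [Algebra.adjoin_empty, Algebra.mem_bot] at hc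
  exact hc

theorem isImmersion_of_nil (hI : IsNilpotent I) {X Y : Scheme.{u}} (u : X ⟶ Y)
    (g : Y ⟶ Spec (CommRingCat.of A)) (v : pullback (u ≫ g) (quotι I) ⟶ pullback g (quotι I))
    (hv : v ≫ pullback.fst g (quotι I) = pullback.fst (u ≫ g) (quotι I) ≫ u) :
    (IsImmersion v → IsImmersion u) ∧ (IsClosedImmersion v → IsClosedImmersion u) := by
  have key : ∀ [IsPreimmersion v], IsPreimmersion u ∧
      Set.range u = pullback.fst g (quotι I) '' Set.range v := by
    intro _
    have := surjectiveOnStalks_of_nil I hI u g v hv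
    have hj := (bijective_fst I hI (u ≫ g))
    have hje : Topology.IsEmbedding (pullback.fst (u ≫ g) (quotι I)) :=
      (pullback.fst (u ≫ g) (quotι I)).isClosedEmbedding.isEmbedding
    let e := hje.toHomeomorphOfSurjective hj.surjective
    have he : ∀ z, u z = (v ≫ pullback.fst g (quotι I)) (e.symm z) := fun z => by
      rw [hv, Scheme.Hom.comp_apply]
      exact congrArg _ (e.apply_symm_apply z).symm
    have hemb : Topology.IsEmbedding u := by
      have := (v ≫ pullback.fst g (quotι I)).isEmbedding.comp e.symm.isEmbedding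
      convert this using 1
      exact funext he
    refine ⟨{ isEmbedding := hemb }, ?_⟩
    rw [← Set.range_comp]
    ext z
    constructor
    · rintro ⟨w, rfl⟩
      exact ⟨e.symm w, (he w).symm⟩
    · rintro ⟨w, rfl⟩
      refine ⟨e w, ?_⟩
      rw [he, e.symm_apply_apply]
      rfl
  have hcl := (pullback.fst g (quotι I)).isClosedEmbedding
  constructor
  · intro _
    obtain ⟨h1, h2⟩ := key
    have h3 := v.isLocallyClosed_range.image hcl.isInducing (by
        rw [Set.range_eq_univ.2 (bijective_fst I hI g).surjective]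
        exact isClosed_univ.isLocallyClosed)
    exact { isLocallyClosed_range := h2 ▸ h3 }
  · intro _
    obtain ⟨h1, h2⟩ := key
    exact IsClosedImmersion.of_isPreimmersion u (h2 ▸ hcl.isClosedMap _ v.isClosedEmbedding.isClosed_range)

end Groth.Agent.NilLift
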