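import Mathlib.RingTheory.FinitePresentation
import Mathlib.RingTheory.Flat.Equalizer
import Mathlib.RingTheory.Adjoin.FG
import Mathlib.LinearAlgebra.TensorProduct.Quotient
import Mathlib.RingTheory.Nilpotent.Basic
import Mathlib.RingTheory.MvPolynomial.Basic
import Mathlib.RingTheory.Ideal.Over

/-!
# Finite type and finite presentation lift along nilpotent thickenings
-/

set_option autoImplicit false

universe u

namespace Groth.Agent.NilLift

variable {A B C : Type u} [CommRing A] [CommRing B] [CommRing C] [Algebra A B] [Algebra B C]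
  [Algebra A C] [IsScalarTower A B C]

theorem adjoin_eq_top_of_mod (n : Ideal A) (hn : IsNilpotent n) (t : Set C)
    (h : ∀ c : C, ∃ s ∈ Algebra.adjoin B t, c - s ∈ n.map (algebraMap A C)) :
    Algebra.adjoin B t = ⊤ := by
  obtain ⟨N, hN⟩ := hn
  let S := Algebra.adjoin B t
  have key : ∀ k : ℕ, ∀ c : C, ∃ s ∈ S, c - s ∈ (n ^ k).map (algebraMap A C) := by
    intro k
    induction k with
    | zero => exact fun c => ⟨0, zero_mem _, by simp [Ideal.map_top]⟩
    | succ k ih =>
      intro c
      obtain ⟨s, hs, hcs⟩ := ih c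
      suffices ∀ z ∈ (n ^ k).map (algebraMap A C), ∃ s' ∈ S, z - s' ∈ (n ^ (k + 1)).map (algebraMap A C) by
        obtain ⟨s', hs', hz⟩ := this _ hcs
        exact ⟨s + s', add_mem hs hs', by rwa [← sub_sub]⟩
      intro z hz
      induction hz using Submodule.span_induction with
      | mem z hz =>
        obtain ⟨a, ha, rfl⟩ := hz
        exact ⟨algebraMap A C a, (IsScalarTower.algebraMap_apply A B C a) ▸ S.algebraMap_mem _, by simp⟩
      | zero => exact ⟨0, zero_mem _, by simp⟩
      | add x y _ _ hx hy =>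
        obtain ⟨a, ha, hxa⟩ := hx
        obtain ⟨b, hb, hyb⟩ := hy
        exact ⟨a + b, add_mem ha hb, by convert add_mem hxa hyb using 1; ring⟩
      | smul r x hxmem hx =>
        obtain ⟨a, ha, hxa⟩ := hx
        obtain ⟨r', hr', hrr⟩ := h r
        refine ⟨r' * a, mul_mem hr' ha, ?_⟩
        have hx' : x * (r - r') ∈ (n ^ (k + 1)).map (algebraMap A C) := by
          rw [pow_succ, Ideal.map_mul]
          exact Ideal.mul_mem_mul hxmem hrr
        convert add_mem hx' (Ideal.mul_mem_left _ r' hxa) using 1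
        rw [smul_eq_mul]; ring
  refine eq_top_iff.2 fun c _ => ?_
  obtain ⟨s, hs, hcs⟩ := key N c
  rw [hN, Ideal.zero_eq_bot, Ideal.map_bot, Ideal.mem_bot, sub_eq_zero] at hcs
  exact hcs ▸ hs

theorem map_map_eq (n : Ideal A) :
    (n.map (algebraMap A B)).map (algebraMap B C) = n.map (algebraMap A C) := by
  rw [Ideal.map_map, ← IsScalarTower.algebraMap_eq]

theorem exists_gens_of_finiteType_mod (n : Ideal A) (hn : IsNilpotent n)
    (h : Algebra.FiniteType (B ⧸ n.map (algebraMap A B))
      (C ⧸ (n.map (algebraMap A B)).map (algebraMap B C))) :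
    ∃ t : Finset C, Algebra.adjoin B (t : Set C) = ⊤ := by
  classical
  let J := (n.map (algebraMap A B)).map (algebraMap B C)
  obtain ⟨t, ht⟩ := h.out
  choose f hf using fun x : C ⧸ J => Ideal.Quotient.mk_surjective x
  refine ⟨t.image f, adjoin_eq_top_of_mod n hn _ fun c => ?_⟩
  have hmem : Ideal.Quotient.mk J c ∈ Algebra.adjoin (B ⧸ n.map (algebraMap A B)) (t : Set (C ⧸ J)) :=
    ht ▸ Algebra.mem_top
  suffices ∀ q ∈ Algebra.adjoin (B ⧸ n.map (algebraMap A B)) (t : Set (C ⧸ J)),
      ∃ s ∈ Algebra.adjoin B (↑(t.image f) : Set C), Ideal.Quotient.mk J s = q by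
    obtain ⟨s, hs, e⟩ := this _ hmem
    refine ⟨s, hs, ?_⟩
    rw [← map_map_eq (B := B) n, ← Ideal.Quotient.eq_zero_iff_mem, map_sub, e, sub_self]
  intro q hq
  induction hq using Algebra.adjoin_induction with
  | mem x hx => exact ⟨f x, Algebra.subset_adjoin (Finset.mem_coe.2 (Finset.mem_image_of_mem f hx)), hf x⟩
  | algebraMap b =>
    obtain ⟨b, rfl⟩ := Ideal.Quotient.mk_surjective b
    exact ⟨algebraMap B C b, Subalgebra.algebraMap_mem _ _, rfl⟩
  | add x y _ _ hx hy =>
    obtain ⟨a, ha, rfl⟩ := hx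
    obtain ⟨b, hb, rfl⟩ := hy
    exact ⟨a + b, add_mem ha hb, map_add _ _ _⟩
  | mul x y _ _ hx hy =>
    obtain ⟨a, ha, rfl⟩ := hx
    obtain ⟨b, hb, rfl⟩ := hy
    exact ⟨a * b, mul_mem ha hb, map_mul _ _ _⟩

theorem finiteType_of_mod (n : Ideal A) (hn : IsNilpotent n)
    (h : Algebra.FiniteType (B ⧸ n.map (algebraMap A B))
      (C ⧸ (n.map (algebraMap A B)).map (algebraMap B C))) : Algebra.FiniteType B C :=
  ⟨exists_gens_of_finiteType_mod n hn h⟩

/-- If the cokernel is flat, `n P ∩ I = n I`. -/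
theorem mem_smul_of_flat {P : Type u} [AddCommGroup P] [Module A P] [Module.Flat A C]
    (φ : P →ₗ[A] C) (hφ : Function.Surjective φ) (n : Ideal A) {a : P} (ha : φ a = 0)
    (hna : a ∈ n • (⊤ : Submodule A P)) : a ∈ n • LinearMap.ker φ := by
  let I := LinearMap.ker φ
  have hinj := LinearMap.lTensor_injective_of_exact_of_flat φ hφ I.subtype I.subtype_injective
    (LinearMap.exact_subtype_ker_map _) (A ⧸ n)
  have h0 : (Ideal.Quotient.mk n 1) ⊗ₜ[A] (⟨a, ha⟩ : I) = 0 := by
    apply hinj
    rw [map_zero, LinearMap.lTensor_tmul]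
    apply (TensorProduct.quotTensorEquivQuotSMul P n).injective
    simpa [Submodule.Quotient.mk_eq_zero] using hna
  have h1 := congrArg (TensorProduct.quotTensorEquivQuotSMul I n) h0
  simp [Submodule.Quotient.mk_eq_zero] at h1
  have := Submodule.mem_map_of_mem (f := I.subtype) h1
  rw [Submodule.map_smul''] at this
  exact Submodule.smul_mono le_rfl (Submodule.map_subtype_le I ⊤) this

theorem finitePresentation_of_mod (n : Ideal A) (hn : IsNilpotent n) [Module.Flat A C]
    (h : Algebra.FinitePresentation (B ⧸ n.map (algebraMap A B))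
      (C ⧸ (n.map (algebraMap A B)).map (algebraMap B C))) : Algebra.FinitePresentation B C := by
  classical
  let nB := n.map (algebraMap A B)
  let nC := nB.map (algebraMap B C)
  have hft := finiteType_of_mod n hn (inferInstance : Algebra.FiniteType (B ⧸ nB) (C ⧸ nC))
  obtain ⟨m, φ, hφ⟩ := Algebra.FiniteType.iff_quotient_mvPolynomial''.1 hft
  let P := MvPolynomial (Fin m) B
  let π : P →+* MvPolynomial (Fin m) (B ⧸ nB) := MvPolynomial.map (Ideal.Quotient.mk nB)
  let φ' : MvPolynomial (Fin m) (B ⧸ nB) →ₐ[B ⧸ nB] C ⧸ nC :=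
    MvPolynomial.aeval fun i => Ideal.Quotient.mk nC (φ (MvPolynomial.X i))
  have hcomm : ∀ p : P, φ' (π p) = Ideal.Quotient.mk nC (φ p) := by
    intro p
    induction p using MvPolynomial.induction_on with
    | C b =>
      rw [show π (MvPolynomial.C b) = MvPolynomial.C (Ideal.Quotient.mk nB b) from MvPolynomial.map_C _ b,
        show φ' (MvPolynomial.C (Ideal.Quotient.mk nB b)) = algebraMap _ _ (Ideal.Quotient.mk nB b) from MvPolynomial.aeval_C _ _,
        ← MvPolynomial.algebraMap_eq, AlgHom.commutes]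
      rfl
    | add p q hp hq => simp only [map_add, hp, hq]
    | mul_X p i hp =>
      rw [map_mul, map_mul, map_mul, map_mul, hp,
        show π (MvPolynomial.X i) = MvPolynomial.X i from MvPolynomial.map_X _ i,
        show φ' (MvPolynomial.X i) = Ideal.Quotient.mk nC (φ (MvPolynomial.X i)) from MvPolynomial.aeval_X _ i]
  have hφ' : Function.Surjective φ' := fun q => by
    obtain ⟨c, rfl⟩ := Ideal.Quotient.mk_surjective q
    obtain ⟨p, rfl⟩ := hφ c
    exact ⟨π p, hcomm p⟩
  obtain ⟨g, hg⟩ := Algebra.FinitePresentation.ker_fG_of_surjective φ' hφ'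
  have hπs : Function.Surjective π := MvPolynomial.map_surjective _ Ideal.Quotient.mk_surjective
  have hkerπ : RingHom.ker π = n.map (algebraMap A P) := by
    rw [MvPolynomial.ker_map, Ideal.mk_ker, Ideal.map_map]
    rfl
  have hmapn : (n.map (algebraMap A P)).map φ.toRingHom = nC := by
    rw [Ideal.map_map]
    refine Eq.trans ?_ (map_map_eq (B := B) (C := C) n).symm
    congr 1
    ext a
    exact (φ.restrictScalars A).commutes a
  have hlift : ∀ q ∈ g, ∃ r : P, φ r = 0 ∧ π r = q := by
    intro q hq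
    obtain ⟨r, rfl⟩ := hπs q
    have h0 : φ r ∈ nC := by
      rw [← Ideal.Quotient.eq_zero_iff_mem, ← hcomm]
      have : π r ∈ RingHom.ker φ'.toRingHom := hg ▸ Submodule.subset_span hq
      exact this
    rw [← hmapn, Ideal.mem_map_iff_of_surjective φ.toRingHom hφ] at h0
    obtain ⟨d, hd, hd'⟩ := h0
    refine ⟨r - d, ?_, ?_⟩
    · rw [map_sub, show φ d = φ r from hd', sub_self]
    · rw [map_sub, show π d = 0 from (RingHom.mem_ker).1 (hkerπ ▸ hd), sub_zero]
  choose r hr0 hrπ using hlift
  let I0 : Ideal P := Ideal.span (Set.range fun q : g => r q.1 q.2)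
  have hI0le : I0 ≤ RingHom.ker φ.toRingHom := Ideal.span_le.2 (by rintro _ ⟨q, rfl⟩; exact hr0 q.1 q.2)
  have hI : ∀ p : P, φ p = 0 → p ∈ I0 ⊔ n.map (algebraMap A P) := by
    intro p hp
    have h1 : π p ∈ RingHom.ker φ'.toRingHom := by
      show φ' (π p) = 0
      rw [hcomm, hp, map_zero]
    rw [← hg] at h1
    have h2 : π p ∈ I0.map π := by
      refine Ideal.span_le.2 ?_ h1
      intro q hq
      rw [← hrπ q hq]
      exact Ideal.mem_map_of_mem π (Ideal.subset_span ⟨⟨q, hq⟩, rfl⟩)
    rw [← hkerπ]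
    rw [Ideal.mem_map_iff_of_surjective π hπs] at h2
    obtain ⟨d, hd, hd'⟩ := h2
    rw [show p = d + (p - d) by ring]
    refine add_mem (Submodule.mem_sup_left hd) (Submodule.mem_sup_right ?_)
    rw [RingHom.mem_ker, map_sub, hd', sub_self]
  let φA : P →ₗ[A] C := φ.toLinearMap.restrictScalars A
  have hstep : LinearMap.ker φA ≤ I0.restrictScalars A ⊔ n • LinearMap.ker φA := by
    intro p hp
    obtain ⟨d, hd, e, he, rfl⟩ := Submodule.mem_sup.1 (hI p hp)
    refine Submodule.add_mem_sup hd (mem_smul_of_flat φA hφ n ?_ ?_)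
    · have h1 : φ (d + e) = 0 := hp
      rw [map_add, show φ d = 0 from hI0le hd, zero_add] at h1
      exact h1
    · rw [Ideal.smul_top_eq_map]
      exact he
  obtain ⟨N, hN⟩ := hn
  have hpow : ∀ k : ℕ, LinearMap.ker φA ≤ I0.restrictScalars A ⊔ n ^ k • LinearMap.ker φA := by
    intro k
    induction k with
    | zero => simp
    | succ k ih =>
      refine ih.trans (sup_le le_sup_left ?_)
      calc n ^ k • LinearMap.ker φA ≤ n ^ k • (I0.restrictScalars A ⊔ n • LinearMap.ker φA) :=
            Submodule.smul_mono le_rfl hstep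
        _ = n ^ k • I0.restrictScalars A ⊔ n ^ (k + 1) • LinearMap.ker φA := by
            rw [Submodule.smul_sup, pow_succ, Submodule.mul_smul]
        _ ≤ _ := sup_le_sup_right Submodule.smul_le_right _
  have hker : RingHom.ker φ.toRingHom = I0 := by
    refine le_antisymm (fun p hp => ?_) hI0le
    have := hpow N (show p ∈ LinearMap.ker φA from hp)
    rwa [hN, Ideal.zero_eq_bot, Submodule.bot_smul, sup_bot_eq, Submodule.restrictScalars_mem] at this
  exact Algebra.FinitePresentation.of_surjective hφ (hker ▸ ⟨g.attach.image fun q => r q.1 q.2, by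
    congr 1
    ext z
    simp⟩)

end Groth.Agent.NilLift
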