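import Groth.Agent.NilLift.Basic
import Mathlib.AlgebraicGeometry.Morphisms.FiniteType
import Mathlib.AlgebraicGeometry.Morphisms.ClosedImmersion

/-!
# Finite type across a nilpotent thickening of the source with finitely generated ideal
-/

set_option autoImplicit false
set_option linter.style.haveILetI false

universe u

open CategoryTheory AlgebraicGeometry

namespace Groth.Agent.NilLift

/-- Finite type lifts along a surjection with finitely generated nilpotent kernel. -/
theorem finiteType_of_comp_surjective {B C D : Type u} [CommRing B] [CommRing C] [CommRing D]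
    (φ : B →+* C) (π : C →+* D) (hπ : Function.Surjective π) (hn : IsNilpotent (RingHom.ker π))
    (hfg : (RingHom.ker π).FG) (h : (π.comp φ).FiniteType) : φ.FiniteType := by
  classical
  obtain ⟨e, he⟩ := hfg
  algebraize [φ, π, π.comp φ]
  let S₀ := Algebra.adjoin B (e : Set C)
  haveI : Algebra.FiniteType B S₀ := ⟨(Subalgebra.fg_top S₀).mpr ⟨e, rfl⟩⟩
  let n : Ideal S₀ := Ideal.comap (algebraMap S₀ C) (RingHom.ker π)
  have hn' : IsNilpotent n := by
    obtain ⟨N, hN⟩ := hn
    refine ⟨N, le_antisymm (fun x hx ↦ ?_) bot_le⟩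
    have h1 : algebraMap S₀ C x ∈ (n ^ N).map (algebraMap S₀ C) := Ideal.mem_map_of_mem _ hx
    rw [Ideal.map_pow] at h1
    have h2 := Ideal.pow_right_mono (Ideal.map_comap_le (K := RingHom.ker π) (f := algebraMap S₀ C)) N h1
    rw [hN] at h2
    exact Subtype.ext h2
  obtain ⟨t, ht⟩ := (inferInstance : Algebra.FiniteType B D).out
  let t' : Finset C := t.image (Function.surjInv hπ)
  have hsub : ∀ d : D, ∃ s ∈ Algebra.adjoin S₀ (t' : Set C), π s = d := by
    intro d
    have hd : d ∈ Algebra.adjoin B (t : Set D) := ht ▸ Algebra.mem_top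
    induction hd using Algebra.adjoin_induction with
    | mem x hx =>
      exact ⟨_, Algebra.subset_adjoin (Finset.mem_coe.2 (Finset.mem_image_of_mem _ hx)),
        Function.surjInv_eq hπ x⟩
    | algebraMap b => exact ⟨algebraMap S₀ C (algebraMap B S₀ b), Subalgebra.algebraMap_mem _ _, rfl⟩
    | add x y _ _ hx hy =>
      obtain ⟨a, ha, rfl⟩ := hx
      obtain ⟨b, hb, rfl⟩ := hy
      exact ⟨a + b, add_mem ha hb, map_add _ _ _⟩
    | mul x y _ _ hx hy =>
      obtain ⟨a, ha, rfl⟩ := hx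
      obtain ⟨b, hb, rfl⟩ := hy
      exact ⟨a * b, mul_mem ha hb, map_mul _ _ _⟩
  have htop : Algebra.adjoin S₀ (t' : Set C) = ⊤ := by
    refine adjoin_eq_top_of_mod (A := S₀) n hn' _ fun c ↦ ?_
    obtain ⟨s, hs, hsd⟩ := hsub (π c)
    refine ⟨s, hs, ?_⟩
    have hmem : c - s ∈ Ideal.span (e : Set C) := he.ge ((RingHom.sub_mem_ker_iff π).mpr hsd.symm)
    refine (Ideal.span_le.mpr fun x hx ↦ ?_) hmem
    exact Ideal.mem_map_of_mem (algebraMap S₀ C)
      (show (⟨x, Algebra.subset_adjoin hx⟩ : S₀) ∈ n from he.le (Ideal.subset_span hx))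
  haveI : Algebra.FiniteType S₀ C := ⟨⟨t', htop⟩⟩
  exact Algebra.FiniteType.trans (S := S₀) inferInstance inferInstance

/-- Chartwise: finite type of a morphism from finite type of its restriction to a closed
subscheme cut out by nilpotent finitely generated ideals. -/
theorem locallyOfFiniteType_of_thickening {X X₀ Y Y₀ : Scheme.{u}} (F : Y ⟶ X) (F₀ : Y₀ ⟶ X₀)
    (i : Y₀ ⟶ Y) (j : X₀ ⟶ X) [IsClosedImmersion i] [IsClosedImmersion j]
    (w : F₀ ≫ j = i ≫ F) [LocallyOfFiniteType F₀]
    (hnil : ∀ U : Y.affineOpens, IsNilpotent (i.ker.ideal U))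
    (hfg : ∀ (U : Y.affineOpens) (V : X.affineOpens), U.1 ≤ F ⁻¹ᵁ V.1 → (i.ker.ideal U).FG) :
    LocallyOfFiniteType F := by
  rw [HasRingHomProperty.iff_appLE (P := @LocallyOfFiniteType)]
  intro V U e
  have hU := i.ker_apply U
  haveI : LocallyOfFiniteType (i ≫ F) := w ▸ inferInstance
  refine finiteType_of_comp_surjective _ (i.app U.1).hom (i.app_surjective U.1 U.2)
    (hU ▸ hnil U) (hU ▸ hfg U V e) ?_
  rw [← CommRingCat.hom_comp, Scheme.Hom.app_eq_appLE, Scheme.Hom.appLE_comp_appLE]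
  exact HasRingHomProperty.appLE @LocallyOfFiniteType (i ≫ F) inferInstance V
    ⟨i ⁻¹ᵁ U.1, U.2.preimage i⟩ _

end Groth.Agent.NilLift
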